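/-
Averaging over the central quotient for weight-one representations of theta groups.
-/
import Mathlib

universe u v w

noncomputable section

namespace Groth.Agent.ThetaAvg

open Module

variable {k : Type u} [Field k] {Γ : Type v} [Group Γ] (ι : kˣ →* Γ)

/-- `ι` acts by multiplication. -/
def Wt {V : Type w} [AddCommGroup V] [Module k V] (ρ : Representation k Γ V) : Prop :=
  ∀ (z : kˣ) (v : V), ρ (ι z) v = (z : k) • v

variable {V W : Type w} [AddCommGroup V] [Module k V] [AddCommGroup W] [Module k W]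
  (ρ : Representation k Γ V) (σ : Representation k Γ W)

/-- Conjugation. -/
def conj (g : Γ) : (V →ₗ[k] W) →ₗ[k] (V →ₗ[k] W) where
  toFun f := σ g ∘ₗ f ∘ₗ ρ g⁻¹
  map_add' f f' := by ext v; simp
  map_smul' c f := by ext v; simp

theorem conj_apply (g : Γ) (f : V →ₗ[k] W) (v : V) : conj ρ σ g f v = σ g (f (ρ g⁻¹ v)) := rfl

theorem conj_mul (g h : Γ) (f : V →ₗ[k] W) : conj ρ σ (g * h) f = conj ρ σ g (conj ρ σ h f) := by
  ext v
  simp [conj_apply, map_mul, mul_inv_rev, Module.End.mul_apply]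

/-- The intertwiners, as linear maps. -/
def Inv : Submodule k (V →ₗ[k] W) where
  carrier := {f | ∀ g v, f (ρ g v) = σ g (f v)}
  add_mem' := fun {a b} ha hb g v => by simp [ha g v, hb g v]
  zero_mem' := fun g v => by simp
  smul_mem' := fun c a ha g v => by simp [ha g v]

theorem conj_eq_of_mem {f : V →ₗ[k] W} (hf : f ∈ Inv ρ σ) (g : Γ) : conj ρ σ g f = f := by
  ext v
  rw [conj_apply, ← hf g, ← Module.End.mul_apply, ← map_mul, mul_inv_cancel, map_one, Module.End.one_apply]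

theorem mem_Inv_of_conj {f : V →ₗ[k] W} (hf : ∀ g, conj ρ σ g f = f) : f ∈ Inv ρ σ := fun g v => by
  conv_lhs => rw [← hf g, conj_apply, ← Module.End.mul_apply, ← map_mul, inv_mul_cancel, map_one,
    Module.End.one_apply]

section Scalars

variable {ι} (hρ : Wt ι ρ) (hσ : Wt ι σ)

include hρ hσ in
theorem conj_iota (z : kˣ) (f : V →ₗ[k] W) : conj ρ σ (ι z) f = f := by
  ext v
  rw [conj_apply, hσ, ← map_inv, hρ, map_smul, smul_smul, ← Units.val_mul, mul_inv_cancel, Units.val_one, one_smul]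

end Scalars

variable [Fintype (Γ ⧸ ι.range)]

/-- The average over the central quotient. -/
def avg : (V →ₗ[k] W) →ₗ[k] (V →ₗ[k] W) := ∑ y : Γ ⧸ ι.range, conj ρ σ y.out

variable {ι}

theorem exists_iota {y : Γ ⧸ ι.range} {g : Γ} (h : (g : Γ ⧸ ι.range) = y) : ∃ z, g = y.out * ι z := by
  obtain ⟨z, hz⟩ := QuotientGroup.eq.1 (y.out_eq.trans h.symm)
  exact ⟨z, by rw [hz, mul_inv_cancel_left]⟩

section Weight

variable (hρ : Wt ι ρ) (hσ : Wt ι σ)

include hρ hσ in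
theorem avg_mem (f : V →ₗ[k] W) : avg ι ρ σ f ∈ Inv ρ σ := by
  refine mem_Inv_of_conj ρ σ fun g => ?_
  rw [avg, LinearMap.sum_apply, map_sum]
  refine Fintype.sum_equiv (MulAction.toPerm g) _ _ fun y => ?_
  obtain ⟨z, hz⟩ := exists_iota (ι := ι) (y := g • y) (g := g * y.out) (by
    rw [← smul_eq_mul, ← MulAction.Quotient.smul_coe, QuotientGroup.out_eq'])
  show conj ρ σ g (conj ρ σ y.out f) = conj ρ σ (g • y).out f
  rw [← conj_mul, hz, conj_mul, conj_iota ρ σ hρ hσ]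

theorem avg_comp_left {U : Type w} [AddCommGroup U] [Module k U] {τ : Representation k Γ U}
    {g : V →ₗ[k] W} (hg : g ∈ Inv ρ σ) (f : U →ₗ[k] V) : avg ι τ σ (g ∘ₗ f) = g ∘ₗ avg ι τ ρ f := by
  ext v
  simp only [avg, LinearMap.sum_apply, LinearMap.comp_apply, map_sum, conj_apply]
  exact Finset.sum_congr rfl fun y _ => (hg _ _).symm

end Weight

section Nondeg

variable (hρ : Wt ι ρ) (hcent : ι.range = Subgroup.center Γ) (hcomm : commutator Γ ≤ ι.range)

include hρ hcomm in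
theorem conj_rep (g a : Γ) : ∃ c : kˣ, g * a * g⁻¹ = ι c * a ∧ conj ρ ρ g (ρ a) = (c : k) • ρ a := by
  obtain ⟨c, hc⟩ := hcomm (Subgroup.commutator_mem_commutator (Subgroup.mem_top g) (Subgroup.mem_top a))
  have hga : g * a * g⁻¹ = ι c * a := by rw [hc, commutatorElement_def]; group
  refine ⟨c, hga, LinearMap.ext fun v => ?_⟩
  rw [conj_apply, LinearMap.smul_apply, ← hρ, ← Module.End.mul_apply, ← Module.End.mul_apply, ← map_mul,
    ← map_mul, hga, ← Module.End.mul_apply, ← map_mul]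

include hρ hcent hcomm in
theorem avg_rep_of_notMem {a : Γ} (ha : a ∉ ι.range) : avg ι ρ ρ (ρ a) = 0 := by
  rw [hcent, Subgroup.mem_center_iff] at ha
  push Not at ha
  obtain ⟨h, hh⟩ := ha
  obtain ⟨c, hca, hc⟩ := conj_rep ρ hρ hcomm h a
  have hc1 : (c : k) ≠ 1 := fun hc1 => hh (by
    rw [Units.val_eq_one] at hc1
    rw [hc1, map_one, one_mul, mul_inv_eq_iff_eq_mul] at hca
    exact hca)
  choose d hd' hd using fun y : Γ ⧸ ι.range => conj_rep ρ hρ hcomm y.out a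
  have hS : avg ι ρ ρ (ρ a) = (∑ y, (d y : k)) • ρ a := by
    rw [avg, LinearMap.sum_apply, Finset.sum_smul]
    exact Finset.sum_congr rfl fun y _ => hd y
  have hfix := conj_eq_of_mem ρ ρ (avg_mem ρ ρ hρ hρ (ρ a)) h
  rw [hS, map_smul, hc, smul_comm] at hfix
  rw [hS]
  have h0 : ((c : k) - 1) • ((∑ y, (d y : k)) • ρ a) = 0 := by rw [sub_smul, one_smul, hfix, sub_self]
  exact (smul_eq_zero.1 h0).resolve_left (sub_ne_zero.2 hc1)

include hρ hcomm hcent in
theorem avg_rep_of_mem {a : Γ} (ha : a ∈ ι.range) :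
    avg ι ρ ρ (ρ a) = (Nat.card (Γ ⧸ ι.range) : k) • ρ a := by
  rw [avg, LinearMap.sum_apply, Nat.card_eq_fintype_card, Nat.cast_smul_eq_nsmul, ← Finset.card_univ,
    ← Finset.sum_const]
  refine Finset.sum_congr rfl fun y _ => LinearMap.ext fun v => ?_
  rw [hcent, Subgroup.mem_center_iff] at ha
  rw [conj_apply, ← Module.End.mul_apply, ← Module.End.mul_apply, ← map_mul, ← map_mul, ha,
    mul_inv_cancel_right]

end Nondeg

section Decompose

variable (hρ : Wt ι ρ) (hσ : Wt ι σ) (hcent : ι.range = Subgroup.center Γ) (hcomm : commutator Γ ≤ ι.range)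
  (hN : (Nat.card (Γ ⧸ ι.range) : k) ≠ 0)

include hρ hσ hcent hcomm in
theorem expand (f : V →ₗ[k] W) :
    ∑ x : Γ ⧸ ι.range, avg ι ρ σ (f ∘ₗ ρ x.out) ∘ₗ ρ x.out⁻¹ = (Nat.card (Γ ⧸ ι.range) : k) • f := by
  classical
  simp only [avg, LinearMap.sum_apply]
  have h1 : ∀ x : Γ ⧸ ι.range, (∑ y : Γ ⧸ ι.range, conj ρ σ y.out (f ∘ₗ ρ x.out)) ∘ₗ ρ x.out⁻¹ =
      ∑ y : Γ ⧸ ι.range, σ y.out ∘ₗ f ∘ₗ conj ρ ρ x.out (ρ y.out⁻¹) := fun x => by
    ext v
    simp [conj_apply, LinearMap.sum_apply]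
  rw [Finset.sum_congr rfl fun x _ => h1 x, Finset.sum_comm]
  have h2 : ∀ y : Γ ⧸ ι.range, ∑ x : Γ ⧸ ι.range, σ y.out ∘ₗ f ∘ₗ conj ρ ρ x.out (ρ y.out⁻¹) =
      σ y.out ∘ₗ f ∘ₗ avg ι ρ ρ (ρ y.out⁻¹) := fun y => by
    ext v
    simp [avg, LinearMap.sum_apply]
  rw [Finset.sum_congr rfl fun y _ => h2 y, Finset.sum_eq_single ((1 : Γ) : Γ ⧸ ι.range)]
  · obtain ⟨z, hz⟩ := exists_iota (ι := ι) (y := ((1 : Γ) : Γ ⧸ ι.range)) (g := 1) rfl
    have hz' : ((1 : Γ) : Γ ⧸ ι.range).out = ι z⁻¹ := by rw [map_inv, eq_inv_iff_mul_eq_one, ← hz]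
    rw [avg_rep_of_mem ρ hρ hcent hcomm ⟨z⁻¹⁻¹, by rw [hz', map_inv]⟩, hz', ← map_inv]
    ext v
    simp only [LinearMap.comp_apply, LinearMap.smul_apply, map_smul]
    rw [inv_inv, hρ, map_smul, hσ, smul_smul ((z⁻¹ : kˣ) : k) (z : k), ← Units.val_mul, inv_mul_cancel, Units.val_one, one_smul]
  · intro y _ hy
    rw [avg_rep_of_notMem ρ hρ hcent hcomm fun h => hy (y.out_eq.symm.trans (QuotientGroup.eq.2 (by
      rw [mul_one]; exact h))), LinearMap.comp_zero, LinearMap.comp_zero]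
  · exact fun h => absurd (Finset.mem_univ _) h

include hρ hσ hcent hcomm hN in
theorem bijective_sum : Function.Bijective fun g : (Γ ⧸ ι.range) → Inv ρ σ =>
    ∑ x, (g x : V →ₗ[k] W) ∘ₗ ρ x.out⁻¹ := by
  classical
  constructor
  · intro g g' h
    funext z
    have key : ∀ g : (Γ ⧸ ι.range) → Inv ρ σ,
        avg ι ρ σ ((∑ x, (g x : V →ₗ[k] W) ∘ₗ ρ x.out⁻¹) ∘ₗ ρ z.out) =
          (Nat.card (Γ ⧸ ι.range) : k) • (g z : V →ₗ[k] W) := by
      intro g
      have he : (∑ x, (g x : V →ₗ[k] W) ∘ₗ ρ x.out⁻¹) ∘ₗ ρ z.out =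
          ∑ x, (g x : V →ₗ[k] W) ∘ₗ ρ (x.out⁻¹ * z.out) := by
        ext v; simp [LinearMap.sum_apply, map_mul, Module.End.mul_apply]
      rw [he, map_sum, Finset.sum_eq_single z]
      · rw [inv_mul_cancel, avg_comp_left ρ σ (g z).2, avg_rep_of_mem ρ hρ hcent hcomm (one_mem _), map_one]
        ext v; simp
      · intro x _ hx
        rw [avg_comp_left ρ σ (g x).2, avg_rep_of_notMem ρ hρ hcent hcomm fun h => hx (by
          rw [← x.out_eq, ← z.out_eq]; exact QuotientGroup.eq.2 h), LinearMap.comp_zero]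
      · exact fun h => absurd (Finset.mem_univ _) h
    have h' := congrArg (fun F => avg ι ρ σ (F ∘ₗ ρ z.out)) h
    simp only [key] at h'
    exact Subtype.ext (smul_right_injective _ hN h')
  · intro f
    refine ⟨fun x => ⟨(Nat.card (Γ ⧸ ι.range) : k)⁻¹ • avg ι ρ σ (f ∘ₗ ρ x.out),
      Submodule.smul_mem _ _ (avg_mem ρ σ hρ hσ _)⟩, ?_⟩
    simp only [LinearMap.smul_comp, ← Finset.smul_sum, expand ρ σ hρ hσ hcent hcomm, smul_smul,
      inv_mul_cancel₀ hN, one_smul]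

include hρ hσ hcent hcomm hN in
theorem finrank_mul [FiniteDimensional k V] [FiniteDimensional k W] :
    Module.finrank k V * Module.finrank k W = Nat.card (Γ ⧸ ι.range) * Module.finrank k (Inv ρ σ) := by
  let Φ : ((Γ ⧸ ι.range) → Inv ρ σ) →ₗ[k] (V →ₗ[k] W) :=
    { toFun := fun g => ∑ x, (g x : V →ₗ[k] W) ∘ₗ ρ x.out⁻¹
      map_add' := fun g g' => by simp [LinearMap.add_comp, Finset.sum_add_distrib]
      map_smul' := fun c g => by simp [LinearMap.smul_comp, Finset.smul_sum] }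
  have e := (LinearEquiv.ofBijective Φ (bijective_sum ρ σ hρ hσ hcent hcomm hN)).finrank_eq
  rw [Module.finrank_pi_fintype, Finset.sum_const, Finset.card_univ, smul_eq_mul, Module.finrank_linearMap] at e
  rw [Nat.card_eq_fintype_card]
  exact e.symm

include hρ hσ hcent hcomm hN in
theorem exists_ne_zero [Nontrivial V] [Nontrivial W] : ∃ f ∈ Inv ρ σ, f ≠ 0 := by
  obtain ⟨v, hv⟩ := exists_ne (0 : V)
  obtain ⟨φ, hφ⟩ : ∃ φ : Module.Dual k V, φ v ≠ 0 := by
    by_contra hc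
    push Not at hc
    exact hv ((Module.forall_dual_apply_eq_zero_iff k v).1 hc)
  obtain ⟨w, hw⟩ := exists_ne (0 : W)
  by_contra hall
  push Not at hall
  obtain ⟨g, hg⟩ := (bijective_sum ρ σ hρ hσ hcent hcomm hN).2 (φ.smulRight w)
  have h := LinearMap.congr_fun hg v
  simp only [LinearMap.sum_apply, LinearMap.comp_apply, hall _ (g _).2, LinearMap.zero_apply,
    Finset.sum_const_zero, LinearMap.smulRight_apply] at h
  exact (smul_ne_zero hφ hw) h.symm

end Decompose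

end Groth.Agent.ThetaAvg
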