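/-
Weight-one representations of theta groups: existence, uniqueness, semisimplicity, level subgroups.
-/
import Mathlib
import Groth.Agent.ThetaAvg.Basic

universe u v w

noncomputable section

namespace Groth.Agent.ThetaAvg

open Module

theorem central {k : Type u} [Field k] {Γ : Type v} [Group Γ] {ι : kˣ →* Γ} (hcent : ι.range = Subgroup.center Γ)
    (z : kˣ) (x : Γ) : x * ι z = ι z * x := by
  have h : ι z ∈ ι.range := ⟨z, rfl⟩
  rw [hcent, Subgroup.mem_center_iff] at h
  exact h x

theorem natCast_ne_zero (k : Type u) [Field k] {N : ℕ} (hN : N ≠ 0) (hcop : N.Coprime (ringExpChar k)) :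
    (N : k) ≠ 0 := by
  obtain ⟨p, hp⟩ := ExpChar.exists k
  rw [ringExpChar.eq k p] at hcop
  cases hp with
  | zero => exact Nat.cast_ne_zero.2 hN
  | prime hprime =>
    rw [Ne, CharP.cast_eq_zero_iff k p]
    intro h
    exact hprime.one_lt.ne' (Nat.eq_one_of_dvd_coprimes hcop h dvd_rfl)

variable {k : Type u} [Field k] [IsAlgClosed k] {Γ : Type v} [Group Γ] {ι : kˣ →* Γ}
variable {V W : Type w} [AddCommGroup V] [Module k V] [FiniteDimensional k V] [AddCommGroup W] [Module k W]
  [FiniteDimensional k W] (ρ : Representation k Γ V) (σ : Representation k Γ W)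

theorem nontrivial_of_irreducible [hi : ρ.IsIrreducible] : Nontrivial V := by
  by_contra h
  rw [not_nontrivial_iff_subsingleton] at h
  obtain ⟨a, b, hab⟩ := (inferInstance : Nontrivial (Subrepresentation ρ)).exists_pair_ne
  exact hab (SetLike.ext fun v => by simp [Subsingleton.elim v 0, show (0 : V) ∈ a from a.toSubmodule.zero_mem,
    show (0 : V) ∈ b from b.toSubmodule.zero_mem])

/-- Schur. -/
theorem finrank_Inv_self [ρ.IsIrreducible] : Module.finrank k (Inv ρ ρ) = 1 := by
  haveI := nontrivial_of_irreducible ρ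
  have h1 : (1 : V →ₗ[k] V) ∈ Inv ρ ρ := fun g v => rfl
  refine finrank_eq_one ⟨1, h1⟩ (fun h => one_ne_zero (congrArg Subtype.val h)) fun f => ?_
  let F : Representation.IntertwiningMap ρ ρ := LinearMap.intertwiningMap_of_isIntertwiningMap _ _ f.1 f.2
  obtain ⟨c, hc⟩ := (Representation.IsIrreducible.algebraMap_intertwiningMap_bijective_of_isAlgClosed (ρ := ρ)).2 F
  refine ⟨c, Subtype.ext ?_⟩
  rw [Representation.IntertwiningMap.algebraMap_apply] at hc
  exact congrArg Representation.IntertwiningMap.toLinearMap hc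

variable [Fintype (Γ ⧸ ι.range)] (hρ : Wt ι ρ) (hσ : Wt ι σ) (hcent : ι.range = Subgroup.center Γ)
  (hcomm : commutator Γ ≤ ι.range) (hN : (Nat.card (Γ ⧸ ι.range) : k) ≠ 0)

include hρ hcent hcomm hN in
theorem finrank_sq [ρ.IsIrreducible] : Module.finrank k V ^ 2 = Nat.card (Γ ⧸ ι.range) := by
  rw [sq, finrank_mul ρ ρ hρ hρ hcent hcomm hN, finrank_Inv_self ρ, mul_one]

include hρ hσ hcent hcomm hN in
theorem finrank_eq_mul [ρ.IsIrreducible] :
    Module.finrank k W = Module.finrank k (Inv ρ σ) * Module.finrank k V := by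
  haveI := nontrivial_of_irreducible ρ
  have h := finrank_mul ρ σ hρ hσ hcent hcomm hN
  rw [← finrank_sq ρ hρ hcent hcomm hN] at h
  refine Nat.eq_of_mul_eq_mul_left (Module.finrank_pos (R := k) (M := V)) (h.trans ?_)
  ring

include hρ hσ hcent hcomm hN in
theorem nonempty_equiv [ρ.IsIrreducible] [σ.IsIrreducible] : Nonempty (Representation.Equiv ρ σ) := by
  haveI := nontrivial_of_irreducible ρ
  haveI := nontrivial_of_irreducible σ
  obtain ⟨f, hf, hf0⟩ := exists_ne_zero ρ σ hρ hσ hcent hcomm hN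
  let F : Representation.IntertwiningMap ρ σ := LinearMap.intertwiningMap_of_isIntertwiningMap _ _ f hf
  rcases Representation.IsIrreducible.bijective_or_eq_zero F with h | h
  · exact ⟨Representation.IntertwiningMap.ofBijective F h⟩
  · exact absurd (congrArg Representation.IntertwiningMap.toLinearMap h) hf0

omit [IsAlgClosed k] in
include hσ hN in
theorem isSemisimple : Representation.IsSemisimpleRepresentation σ := by
  refine ⟨fun a => ?_⟩
  obtain ⟨π, hπ⟩ := LinearMap.exists_leftInverse_of_injective a.toSubmodule.subtype (Submodule.ker_subtype _)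
  have hτ : Wt ι a.toRepresentation := fun z x => Subtype.ext (hσ z x)
  set P : W →ₗ[k] a.toSubmodule := (Nat.card (Γ ⧸ ι.range) : k)⁻¹ • avg ι σ a.toRepresentation π with hP
  have hPinv : P ∈ Inv σ a.toRepresentation := Submodule.smul_mem _ _ (avg_mem σ a.toRepresentation hσ hτ π)
  have hPid : ∀ x : a.toSubmodule, P x = x := fun x => by
    have : ∀ y : Γ ⧸ ι.range, conj σ a.toRepresentation y.out π (x : W) = x := fun y => by
      have hx : π (σ y.out⁻¹ (x : W)) = a.toRepresentation y.out⁻¹ x :=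
        LinearMap.congr_fun hπ (a.toRepresentation y.out⁻¹ x)
      rw [conj_apply, hx, ← Module.End.mul_apply, ← map_mul, mul_inv_cancel, map_one, Module.End.one_apply]
    rw [hP, LinearMap.smul_apply, avg, LinearMap.sum_apply, LinearMap.sum_apply, Finset.sum_congr rfl fun y _ => this y,
      Finset.sum_const, Finset.card_univ, ← Nat.card_eq_fintype_card, ← Nat.cast_smul_eq_nsmul k, smul_smul,
      inv_mul_cancel₀ hN, one_smul]
  refine ⟨⟨LinearMap.ker P, fun g v hv => ?_⟩, ?_⟩
  · rw [LinearMap.mem_ker] at hv ⊢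
    rw [hPinv g v, hv, map_zero]
  · have hc : IsCompl a.toSubmodule (LinearMap.ker P) := LinearMap.isCompl_of_proj hPid
    constructor
    · rw [disjoint_iff_inf_le]
      intro v hv
      have : v ∈ a.toSubmodule ⊓ LinearMap.ker P := hv
      rw [hc.inf_eq_bot, Submodule.mem_bot] at this
      subst this
      exact (⊥ : Subrepresentation σ).toSubmodule.zero_mem
    · rw [codisjoint_iff_le_sup]
      intro v _
      have : v ∈ a.toSubmodule ⊔ LinearMap.ker P := by rw [hc.sup_eq_top]; trivial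
      exact this

section Level

variable (H : Subgroup Γ) (hH : H ⊓ ι.range = ⊥)
  (hmax : ∀ H' : Subgroup Γ, H' ⊓ ι.range = ⊥ → H ≤ H' → H' = H) (hι : Function.Injective ι)

include hcent hmax hH hι in
theorem exists_noncomm {g : Γ} (hg : ∀ (h : Γ) (z : kˣ), h ∈ H → g ≠ h * ι z) :
    ∃ h ∈ H, h * g ≠ g * h := by
  classical
  by_contra hc
  push Not at hc
  -- powers of `g` inside `H · kˣ`
  let M : Subgroup Γ :=
    { carrier := {x | ∃ h ∈ H, ∃ z, x = h * ι z}
      one_mem' := ⟨1, one_mem _, 1, by rw [map_one, one_mul]⟩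
      mul_mem' := by
        rintro _ _ ⟨h, hh, z, rfl⟩ ⟨h', hh', z', rfl⟩
        refine ⟨h * h', mul_mem hh hh', z * z', ?_⟩
        have hz := central hcent z h'
        rw [map_mul, mul_assoc, mul_assoc, ← mul_assoc (ι z) h', ← hz, mul_assoc]
      inv_mem' := by
        rintro _ ⟨h, hh, z, rfl⟩
        refine ⟨h⁻¹, inv_mem hh, z⁻¹, ?_⟩
        have hz := central hcent z⁻¹ h⁻¹
        rw [mul_inv_rev, hz, map_inv] }
  have hle : ι.range ≤ M := by
    rintro _ ⟨z, rfl⟩
    exact ⟨1, one_mem _, z, by rw [one_mul]⟩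
  haveI : M.FiniteIndex := by
    haveI : ι.range.FiniteIndex := Subgroup.finiteIndex_of_finite_quotient
    exact Subgroup.finiteIndex_of_le hle
  have hex : ∃ n, 0 < n ∧ g ^ n ∈ M := by
    obtain ⟨n, hn, -, hmem⟩ := Subgroup.exists_pow_mem_of_index_ne_zero (Subgroup.FiniteIndex.index_ne_zero (H := M)) g
    exact ⟨n, hn, hmem⟩
  obtain ⟨hn0, h₀, hh₀, c, hc₀⟩ := Nat.find_spec hex
  set n := Nat.find hex with hn
  obtain ⟨w, hw⟩ := IsAlgClosed.exists_pow_nat_eq ((c⁻¹ : kˣ) : k) hn0
  have hw0 : w ≠ 0 := fun h => (c⁻¹).ne_zero (by rw [← hw, h, zero_pow hn0.ne'])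
  set g' := g * ι (Units.mk0 w hw0) with hg'
  have hgz : Commute g (ι (Units.mk0 w hw0)) :=
    central hcent (Units.mk0 w hw0) g
  have hg'n : g' ^ n = h₀ := by
    rw [hg', hgz.mul_pow, hc₀, ← map_pow, show Units.mk0 w hw0 ^ n = c⁻¹ from Units.ext hw, map_inv,
      mul_inv_cancel_right]
  have hcg' : ∀ h ∈ H, Commute h g' := fun h hh => by
    refine Commute.mul_right (hc h hh) ?_
    exact central hcent (Units.mk0 w hw0) h
  let H' : Subgroup Γ :=
    { carrier := {x | ∃ h ∈ H, ∃ m : ℤ, x = h * g' ^ m}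
      one_mem' := ⟨1, one_mem _, 0, by rw [zpow_zero, one_mul]⟩
      mul_mem' := by
        rintro _ _ ⟨h, hh, m, rfl⟩ ⟨h', hh', m', rfl⟩
        refine ⟨h * h', mul_mem hh hh', m + m', ?_⟩
        rw [zpow_add, mul_assoc, mul_assoc, ← mul_assoc (g' ^ m) h', ← ((hcg' h' hh').zpow_right m).eq, mul_assoc]
      inv_mem' := by
        rintro _ ⟨h, hh, m, rfl⟩
        refine ⟨h⁻¹, inv_mem hh, -m, ?_⟩
        rw [mul_inv_rev, zpow_neg, ((hcg' h hh).zpow_right m).inv_inv.eq] }
  have hH'le : H ≤ H' := fun h hh => ⟨h, hh, 0, by rw [zpow_zero, mul_one]⟩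
  have hH' : H' ⊓ ι.range = ⊥ := by
    rw [eq_bot_iff]
    rintro x ⟨⟨h, hh, m, rfl⟩, ⟨z, hz⟩⟩
    -- reduce the exponent modulo `n`
    have hg'M : g' ^ (m % (n : ℤ)) ∈ M := by
      have e : g' ^ (m % (n : ℤ)) = (h₀ ^ (m / (n : ℤ)))⁻¹ * (h⁻¹ * ι z) := by
        rw [hz, ← mul_assoc h⁻¹, inv_mul_cancel, one_mul, ← hg'n, ← zpow_natCast, ← zpow_mul, ← zpow_neg, ← zpow_add,
          Int.emod_def]
        ring_nf
      rw [e]
      exact mul_mem (inv_mem (zpow_mem (show h₀ ∈ M from ⟨h₀, hh₀, 1, by rw [map_one, mul_one]⟩) _))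
        ⟨h⁻¹, inv_mem hh, z, rfl⟩
    obtain ⟨r, hr⟩ := Int.eq_ofNat_of_zero_le (Int.emod_nonneg m (by exact_mod_cast hn0.ne' : (n : ℤ) ≠ 0))
    rw [hr, zpow_natCast] at hg'M
    have hgr : g ^ r ∈ M := by
      have : g ^ r = g' ^ r * (ι (Units.mk0 w hw0) ^ r)⁻¹ := by rw [hg', hgz.mul_pow, mul_inv_cancel_right]
      rw [this]
      exact mul_mem hg'M (inv_mem (pow_mem (hle ⟨_, rfl⟩) _))
    have hr0 : r = 0 := by
      by_contra hr0
      have hlt : r < n := by
        have := Int.emod_lt_of_pos m (show (0 : ℤ) < n by exact_mod_cast hn0)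
        rw [hr] at this
        exact_mod_cast this
      exact Nat.find_min hex hlt ⟨Nat.pos_of_ne_zero hr0, hgr⟩
    rw [hr0, Nat.cast_zero] at hr
    have hm : m = (n : ℤ) * (m / (n : ℤ)) := by
      have := Int.emod_add_mul_ediv m (n : ℤ)
      omega
    have hmemH : h * g' ^ m ∈ H := by
      rw [hm, zpow_mul, zpow_natCast, hg'n]
      exact mul_mem hh (zpow_mem hh₀ _)
    rw [← hH]
    exact ⟨hmemH, ⟨z, hz⟩⟩
  have hmem : g' ∈ H := by
    rw [← hmax H' hH' hH'le]
    exact ⟨1, one_mem _, 1, by rw [one_mul, zpow_one]⟩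
  refine hg g' (Units.mk0 w hw0)⁻¹ hmem ?_
  rw [hg', map_inv, mul_inv_cancel_right]

variable [hρi : ρ.IsIrreducible]

include hρ hσ hcent hcomm hN hH hmax hι in
/-- Invariants under a maximal level subgroup. -/
theorem finrank_invariants :
    Module.finrank k (Representation.invariants (σ.comp H.subtype)) = Module.finrank k (Inv ρ σ) := by
  classical
  haveI := nontrivial_of_irreducible ρ
  -- `H` is finite
  have hinjH : Function.Injective fun h : H => ((h : Γ) : Γ ⧸ ι.range) := fun a b hab => by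
    have h1 : (a : Γ)⁻¹ * b ∈ H ⊓ ι.range := Subgroup.mem_inf.2 ⟨H.mul_mem (H.inv_mem a.2) b.2, QuotientGroup.eq.1 hab⟩
    rw [hH, Subgroup.mem_bot, inv_mul_eq_one] at h1
    exact Subtype.ext h1
  haveI : Finite H := Finite.of_injective _ hinjH
  haveI : Fintype H := Fintype.ofFinite H
  -- projection to the invariants
  set P : V →ₗ[k] V := ∑ h : H, ρ h with hP
  have hPinv : ∀ (h : H) (v : V), ρ h (P v) = P v := fun h v => by
    rw [hP, LinearMap.sum_apply, map_sum]
    exact Fintype.sum_equiv (Equiv.mulLeft h) _ _ fun h' => by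
      rw [← Module.End.mul_apply, ← map_mul]; rfl
  have hPinv' : ∀ (h : H) (v : V), P (ρ h v) = P v := fun h v => by
    rw [hP, LinearMap.sum_apply, LinearMap.sum_apply]
    exact Fintype.sum_equiv (Equiv.mulRight h) _ _ fun h' => by
      rw [← Module.End.mul_apply, ← map_mul]; rfl
  have havgP : avg ι ρ ρ P = (Nat.card (Γ ⧸ ι.range) : k) • 1 := by
    rw [hP, map_sum, Finset.sum_eq_single (1 : H)]
    · rw [OneMemClass.coe_one, avg_rep_of_mem ρ hρ hcent hcomm (one_mem _), map_one]
    · intro h _ hne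
      refine avg_rep_of_notMem ρ hρ hcent hcomm fun hmem => hne (Subtype.ext ?_)
      have : (h : Γ) ∈ H ⊓ ι.range := ⟨h.2, hmem⟩
      rwa [hH, Subgroup.mem_bot] at this
    · exact fun h => absurd (Finset.mem_univ _) h
  obtain ⟨v₁, hv₁⟩ : ∃ v, P v ≠ 0 := by
    by_contra hc
    push Not at hc
    rw [show P = 0 from LinearMap.ext hc, map_zero, eq_comm, smul_eq_zero] at havgP
    exact one_ne_zero (havgP.resolve_left hN)
  set v₀ := P v₁
  have hv₀ : v₀ ≠ 0 := hv₁
  obtain ⟨φ, hφ⟩ : ∃ φ : Module.Dual k V, φ v₀ ≠ 0 := by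
    by_contra hc
    push Not at hc
    exact hv₀ ((Module.forall_dual_apply_eq_zero_iff k v₀).1 hc)
  -- an invariant functional, killing the translates of `v₀` outside `H · kˣ`
  let ψ : Module.Dual k V := φ ∘ₗ P
  have hψv : ψ v₀ = (Fintype.card H : k) * φ v₀ := by
    show φ (P v₀) = _
    rw [show P v₀ = ∑ h : H, ρ h v₀ from by rw [hP, LinearMap.sum_apply], Finset.sum_congr rfl fun h _ => hPinv h v₁,
      Finset.sum_const, Finset.card_univ, map_nsmul, nsmul_eq_mul]
  have hvanish : ∀ g : Γ, (∀ (h : Γ) (z : kˣ), h ∈ H → g ≠ h * ι z) → ψ (ρ g v₀) = 0 := by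
    intro g hg
    obtain ⟨h, hh, hne⟩ := exists_noncomm hcent H hH hmax hι hg
    obtain ⟨c, hca, -⟩ := conj_rep ρ hρ hcomm h g
    have hc1 : (c : k) ≠ 1 := fun hc1 => hne (by
      rw [Units.val_eq_one] at hc1
      rw [hc1, map_one, one_mul, mul_inv_eq_iff_eq_mul] at hca
      exact hca)
    have h1 : ρ h (ρ g v₀) = (c : k) • ρ g v₀ := by
      rw [← Module.End.mul_apply, ← map_mul, show h * g = h * g * h⁻¹ * h by group, hca, mul_assoc, map_mul,
        Module.End.mul_apply, map_mul, Module.End.mul_apply]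
      rw [show ρ h v₀ = v₀ from hPinv ⟨h, hh⟩ v₁, hρ]
    have h2 : ψ (ρ h (ρ g v₀)) = ψ (ρ g v₀) := congrArg φ (hPinv' ⟨h, hh⟩ _)
    rw [h1, map_smul, smul_eq_mul] at h2
    have h3 : ((c : k) - 1) * ψ (ρ g v₀) = 0 := by rw [sub_mul, h2, one_mul, sub_self]
    exact (mul_eq_zero.1 h3).resolve_left (sub_ne_zero.2 hc1)
  let L : Inv ρ σ →ₗ[k] Representation.invariants (σ.comp H.subtype) :=
    { toFun := fun f => ⟨f.1 v₀, fun h => by
        show σ h (f.1 v₀) = f.1 v₀
        rw [← f.2, show ρ (h : Γ) v₀ = v₀ from hPinv h v₁]⟩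
      map_add' := fun f f' => rfl
      map_smul' := fun c f => rfl }
  refine (LinearEquiv.ofBijective L ⟨?_, ?_⟩).finrank_eq.symm
  · rw [injective_iff_map_eq_zero]
    intro f hf
    let F : Representation.IntertwiningMap ρ σ := LinearMap.intertwiningMap_of_isIntertwiningMap _ _ f.1 f.2
    rcases Representation.IsIrreducible.injective_or_eq_zero F with h | h
    · refine absurd (h (show F v₀ = F 0 from ?_)) hv₀
      rw [map_zero]
      exact congrArg Subtype.val hf
    · exact Subtype.ext (congrArg Representation.IntertwiningMap.toLinearMap h)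
  · intro w
    have hw : ∀ h : H, σ h (w : W) = w := fun h => w.2 h
    let S : Finset (Γ ⧸ ι.range) := Finset.univ.filter fun y => ∃ h : H, ((h : Γ) : Γ ⧸ ι.range) = y
    have hval : ∀ y, conj ρ σ y.out (ψ.smulRight (w : W)) v₀ = if y ∈ S then ψ v₀ • (w : W) else 0 := by
      intro y
      rw [conj_apply, LinearMap.smulRight_apply, map_smul]
      split_ifs with hy
      · obtain ⟨h, hh⟩ := (Finset.mem_filter.1 hy).2
        obtain ⟨z, hz⟩ := exists_iota (ι := ι) hh
        have hyo : y.out = (h : Γ) * ι z⁻¹ := by rw [hz, map_inv, mul_inv_cancel_right]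
        rw [hyo, mul_inv_rev, ← map_inv, inv_inv, map_mul, map_mul, Module.End.mul_apply, Module.End.mul_apply,
          show ((h : Γ))⁻¹ = ((h⁻¹ : H) : Γ) from rfl, show ρ ((h⁻¹ : H) : Γ) v₀ = v₀ from hPinv h⁻¹ v₁, hρ,
          map_smul, hσ, map_smul, hw, smul_smul, smul_eq_mul, mul_comm (z : k), mul_assoc, ← Units.val_mul,
          mul_inv_cancel, Units.val_one, mul_one]
      · rw [hvanish, zero_smul]
        intro h z hh he
        refine hy (Finset.mem_filter.2 ⟨Finset.mem_univ _, ⟨⟨h⁻¹, inv_mem hh⟩, ?_⟩⟩)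
        rw [← QuotientGroup.out_eq' y, QuotientGroup.eq]
        refine ⟨z⁻¹, ?_⟩
        rw [inv_inv]
        have hyo : y.out = (ι z)⁻¹ * h⁻¹ := by rw [← inv_inv y.out, he, mul_inv_rev]
        have hcz := central hcent z⁻¹ h⁻¹
        rw [map_inv] at hcz ⊢
        rw [hyo, ← hcz, mul_inv_cancel_left]
    have hS : S.card = Fintype.card H := by
      rw [show S = Finset.univ.image (fun h : H => ((h : Γ) : Γ ⧸ ι.range)) by ext y; simp [S, eq_comm],
        Finset.card_image_of_injective _ hinjH, Finset.card_univ]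
    have hH0 : (Fintype.card H : k) ≠ 0 := by
      intro h0
      rw [show avg ι ρ ρ P = avg ι ρ ρ P from rfl] at havgP
      have h4 : ψ v₀ = 0 := by rw [hψv, h0, zero_mul]
      have h5 : P v₀ = 0 := by
        rw [show P v₀ = ∑ h : H, ρ h v₀ from by rw [hP, LinearMap.sum_apply],
          Finset.sum_congr rfl fun h _ => hPinv h v₁, Finset.sum_const, Finset.card_univ, ← Nat.cast_smul_eq_nsmul k,
          h0, zero_smul]
      have h6 : P ∘ₗ P = 0 := LinearMap.ext fun v => by
        rw [LinearMap.comp_apply, show P (P v) = ∑ h : H, ρ h (P v) from by rw [hP, LinearMap.sum_apply],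
          Finset.sum_congr rfl fun h _ => hPinv h v, Finset.sum_const, Finset.card_univ, ← Nat.cast_smul_eq_nsmul k,
          h0, zero_smul, LinearMap.zero_apply]
      -- a nilpotent operator has trace zero, the projection has trace `dim V`
      have hd : (Module.finrank k V : k) ≠ 0 := by
        intro hd
        apply hN
        rw [← finrank_sq ρ hρ hcent hcomm hN, Nat.cast_pow, hd, zero_pow two_ne_zero]
      have htr : LinearMap.trace k V (avg ι ρ ρ P) = (Nat.card (Γ ⧸ ι.range) : k) * LinearMap.trace k V P := by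
        rw [avg, LinearMap.sum_apply, map_sum, Finset.sum_congr rfl fun y _ => show
            LinearMap.trace k V (conj ρ ρ y.out P) = LinearMap.trace k V P from by
          show LinearMap.trace k V (ρ y.out * (P * ρ y.out⁻¹)) = _
          rw [LinearMap.trace_mul_comm, mul_assoc, ← map_mul, inv_mul_cancel, map_one, mul_one],
          Finset.sum_const, Finset.card_univ, nsmul_eq_mul, Nat.card_eq_fintype_card]
      rw [(LinearMap.isNilpotent_trace_of_isNilpotent (⟨2, by rw [sq]; exact h6⟩ : IsNilpotent P)).eq_zero, mul_zero, havgP, map_smul,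
        LinearMap.trace_one, smul_eq_mul] at htr
      exact (mul_ne_zero hN hd) htr
    set a : k := (Fintype.card H : k) * ψ v₀ with ha
    have ha0 : a ≠ 0 := mul_ne_zero hH0 (by rw [hψv]; exact mul_ne_zero hH0 hφ)
    refine ⟨⟨a⁻¹ • avg ι ρ σ (ψ.smulRight (w : W)), Submodule.smul_mem _ _ (avg_mem ρ σ hρ hσ _)⟩, Subtype.ext ?_⟩
    show (a⁻¹ • avg ι ρ σ (ψ.smulRight (w : W))) v₀ = w
    rw [LinearMap.smul_apply, avg, LinearMap.sum_apply, LinearMap.sum_apply, Finset.sum_congr rfl fun y _ => hval y,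
      Finset.sum_ite_mem, Finset.univ_inter, Finset.sum_const, hS, ← Nat.cast_smul_eq_nsmul k, smul_smul, smul_smul,
      mul_assoc a⁻¹, ← ha, inv_mul_cancel₀ ha0, one_smul]

end Level

end Groth.Agent.ThetaAvg
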