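/-
Existence of an irreducible weight-one representation.
-/
import Mathlib
import Groth.Agent.ThetaAvg.Rep

universe u

noncomputable section

namespace Groth.Agent.ThetaAvg

variable {k : Type u} [Field k] {Γ : Type u} [Group Γ] (ι : kˣ →* Γ)

/-- The functions of weight one. -/
def wtFun : Submodule k (Γ → k) where
  carrier := {f | ∀ (z : kˣ) (g : Γ), f (ι z * g) = (z : k) * f g}
  add_mem' := fun {a b} ha hb z g => by simp only [Pi.add_apply, ha z g, hb z g, mul_add]
  zero_mem' := fun z g => by simp
  smul_mem' := fun c a ha z g => by simp only [Pi.smul_apply, smul_eq_mul, ha z g, mul_left_comm]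

/-- Right translation. -/
def regular : Representation k Γ (wtFun ι) where
  toFun g :=
    { toFun := fun f => ⟨fun x => f.1 (x * g), fun z x => by
        show f.1 (ι z * x * g) = (z : k) * f.1 (x * g)
        rw [mul_assoc]; exact f.2 z _⟩
      map_add' := fun _ _ => rfl
      map_smul' := fun _ _ => rfl }
  map_one' := LinearMap.ext fun f => Subtype.ext (funext fun x => by simp)
  map_mul' g h := LinearMap.ext fun f => Subtype.ext (funext fun x => by simp [mul_assoc])

variable {ι}

theorem wt_regular (hcent : ι.range = Subgroup.center Γ) : Wt ι (regular ι) := fun z f =>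
  Subtype.ext (funext fun x => by
    show f.1 (x * ι z) = (z : k) * f.1 x
    rw [central hcent z x]
    exact f.2 z x)

theorem finite_wtFun (hcent : ι.range = Subgroup.center Γ) [Fintype (Γ ⧸ ι.range)] : FiniteDimensional k (wtFun ι) := by
  let L : wtFun ι →ₗ[k] ((Γ ⧸ ι.range) → k) :=
    { toFun := fun f y => f.1 y.out
      map_add' := fun _ _ => rfl
      map_smul' := fun _ _ => rfl }
  refine FiniteDimensional.of_injective L fun f f' h => Subtype.ext (funext fun x => ?_)
  obtain ⟨z, hz⟩ := exists_iota (ι := ι) (g := x) rfl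
  rw [hz, central hcent z, f.2, f'.2]
  exact congrArg ((z : k) * ·) (congrFun h _)

theorem nontrivial_wtFun (hι : Function.Injective ι) : Nontrivial (wtFun ι) := by
  classical
  let f : Γ → k := fun g => if h : g ∈ ι.range then ((MonoidHom.ofInjective hι).symm ⟨g, h⟩ : kˣ) else 0
  have hf : f ∈ wtFun ι := fun z g => by
    by_cases h : g ∈ ι.range
    · obtain ⟨w, rfl⟩ := h
      simp only [f]
      rw [dif_pos ⟨z * w, map_mul ι z w⟩, dif_pos ⟨w, rfl⟩, ← Units.val_mul]
      congr 1
      apply (MonoidHom.ofInjective hι).injective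
      rw [MulEquiv.apply_symm_apply, map_mul, MulEquiv.apply_symm_apply]
      exact Subtype.ext rfl
    · have h' : ι z * g ∉ ι.range := fun hm => h (by simpa using mul_mem (inv_mem ⟨z, rfl⟩ : (ι z)⁻¹ ∈ ι.range) hm)
      simp only [f, dif_neg h, dif_neg h', mul_zero]
  refine nontrivial_of_ne (⟨f, hf⟩ : wtFun ι) 0 fun h => ?_
  have := congrFun (congrArg Subtype.val h) 1
  simp only [f, dif_pos (one_mem ι.range), ZeroMemClass.coe_zero, Pi.zero_apply] at this
  exact Units.ne_zero _ this

/-- A nonzero finite-dimensional representation has an irreducible subrepresentation. -/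
theorem exists_irreducible {V : Type u} [AddCommGroup V] [Module k V] [FiniteDimensional k V] [Nontrivial V]
    (ρ : Representation k Γ V) : ∃ a : Subrepresentation ρ, a.toRepresentation.IsIrreducible := by
  classical
  have hex : ∃ n, ∃ a : Subrepresentation ρ, a.toSubmodule ≠ ⊥ ∧ Module.finrank k a.toSubmodule = n :=
    ⟨_, ⊤, top_ne_bot, rfl⟩
  obtain ⟨a, ha, han⟩ := Nat.find_spec hex
  refine ⟨a, { toNontrivial := ?_, eq_bot_or_eq_top := fun b => ?_ }⟩
  · refine ⟨⊥, ⊤, fun h => ha ?_⟩
    rw [eq_bot_iff]
    intro v hv
    have : (⟨v, hv⟩ : a.toSubmodule) ∈ (⊥ : Subrepresentation a.toRepresentation) := by rw [h]; trivial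
    exact congrArg Subtype.val ((Submodule.mem_bot k).1 this)
  · let b' : Subrepresentation ρ :=
      ⟨b.toSubmodule.map a.toSubmodule.subtype, fun g v hv => by
        obtain ⟨x, hx, rfl⟩ := Submodule.mem_map.1 hv
        exact Submodule.mem_map.2 ⟨a.toRepresentation g x, b.apply_mem_toSubmodule g hx, rfl⟩⟩
    by_cases hb : b.toSubmodule = ⊥
    · exact Or.inl (Subrepresentation.toSubmodule_injective hb)
    · right
      apply Subrepresentation.toSubmodule_injective
      show b.toSubmodule = ⊤
      refine Submodule.eq_top_of_finrank_eq (le_antisymm (Submodule.finrank_le _) ?_)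
      have hb' : b'.toSubmodule ≠ ⊥ := fun h => hb (Submodule.map_injective_of_injective
        a.toSubmodule.injective_subtype (h.trans (Submodule.map_bot _).symm))
      have := Nat.find_min' hex ⟨b', hb', rfl⟩
      rw [← han, show b'.toSubmodule = b.toSubmodule.map a.toSubmodule.subtype from rfl,
        ← (Submodule.equivMapOfInjective _ a.toSubmodule.injective_subtype b.toSubmodule).finrank_eq] at this
      exact this

end Groth.Agent.ThetaAvg
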